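import Groth.Agent.Lib.Helper39.G8.Goal

namespace Groth.Agent.Lib.Helper39.G8

open Models Groth.Agent.Lib.Helper39

theorem shape0 (T : Models.NumericalType 8) (hall : ∀ i, T.IsMinusTwo i) (x0 x1 x2 x3 x4 x5 x6 x7 : Fin 8)
    (hne_0_1 : x0 ≠ x1) (hne_0_2 : x0 ≠ x2) (hne_0_3 : x0 ≠ x3) (hne_0_4 : x0 ≠ x4)
    (hne_0_5 : x0 ≠ x5) (hne_0_6 : x0 ≠ x6) (hne_0_7 : x0 ≠ x7) (hne_1_2 : x1 ≠ x2)
    (hne_1_3 : x1 ≠ x3) (hne_1_4 : x1 ≠ x4) (hne_1_5 : x1 ≠ x5) (hne_1_6 : x1 ≠ x6)
    (hne_1_7 : x1 ≠ x7) (hne_2_3 : x2 ≠ x3) (hne_2_4 : x2 ≠ x4) (hne_2_5 : x2 ≠ x5)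
    (hne_2_6 : x2 ≠ x6) (hne_2_7 : x2 ≠ x7) (hne_3_4 : x3 ≠ x4) (hne_3_5 : x3 ≠ x5)
    (hne_3_6 : x3 ≠ x6) (hne_3_7 : x3 ≠ x7) (hne_4_5 : x4 ≠ x5) (hne_4_6 : x4 ≠ x6)
    (hne_4_7 : x4 ≠ x7) (hne_5_6 : x5 ≠ x6) (hne_5_7 : x5 ≠ x7) (hne_6_7 : x6 ≠ x7)
    (hadj_0_1 : T.a x0 x1 ≠ 0) (hadj_0_2 : T.a x0 x2 ≠ 0) (hadj_0_3 : T.a x0 x3 ≠ 0)
    (hz_0_4 : T.a x0 x4 = 0) (hz_0_5 : T.a x0 x5 = 0) (hz_0_6 : T.a x0 x6 = 0)
    (hz_0_7 : T.a x0 x7 = 0) (hz_1_2 : T.a x1 x2 = 0) (hz_1_3 : T.a x1 x3 = 0)
    (hz_1_4 : T.a x1 x4 = 0) (hz_1_5 : T.a x1 x5 = 0) (hz_1_6 : T.a x1 x6 = 0)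
    (hz_1_7 : T.a x1 x7 = 0) (hz_2_3 : T.a x2 x3 = 0) (hz_2_4 : T.a x2 x4 = 0)
    (hz_2_5 : T.a x2 x5 = 0) (hz_2_6 : T.a x2 x6 = 0) (hz_2_7 : T.a x2 x7 = 0)
    (hadj_3_4 : T.a x3 x4 ≠ 0) (hz_3_5 : T.a x3 x5 = 0) (hz_3_6 : T.a x3 x6 = 0)
    (hz_3_7 : T.a x3 x7 = 0) (hadj_4_5 : T.a x4 x5 ≠ 0) (hz_4_6 : T.a x4 x6 = 0)
    (hz_4_7 : T.a x4 x7 = 0) (hadj_5_6 : T.a x5 x6 ≠ 0) (hz_5_7 : T.a x5 x7 = 0)
    (hadj_6_7 : T.a x6 x7 ≠ 0) :
    Goal T := by
  unfold Goal
  have hd : ∀ i, T.a i i = -2 * T.w i := fun i => (hall i).2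
  have hwp := T.w_pos
  have hmp := T.m_pos
  have hsym : ∀ i j, T.a i j = T.a j i := NT.symm' T
  have hnn : ∀ i j, i ≠ j → 0 ≤ T.a i j := T.offDiag_nonneg
  have hadj_1_0 : T.a x1 x0 ≠ 0 := by rw [hsym]; exact hadj_0_1
  have hl_0_1 := NT.lb1 T _ _ hne_0_1 hadj_0_1
  have hl_1_0 := NT.lb1 T _ _ hne_0_1.symm hadj_1_0
  have hs_0_1 : T.a x0 x1 = T.a x1 x0 := hsym _ _
  have hadj_2_0 : T.a x2 x0 ≠ 0 := by rw [hsym]; exact hadj_0_2
  have hl_0_2 := NT.lb1 T _ _ hne_0_2 hadj_0_2
  have hl_2_0 := NT.lb1 T _ _ hne_0_2.symm hadj_2_0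
  have hs_0_2 : T.a x0 x2 = T.a x2 x0 := hsym _ _
  have hadj_3_0 : T.a x3 x0 ≠ 0 := by rw [hsym]; exact hadj_0_3
  have hl_0_3 := NT.lb1 T _ _ hne_0_3 hadj_0_3
  have hl_3_0 := NT.lb1 T _ _ hne_0_3.symm hadj_3_0
  have hs_0_3 : T.a x0 x3 = T.a x3 x0 := hsym _ _
  have hz_4_0 : T.a x4 x0 = 0 := by rw [hsym]; exact hz_0_4
  have hz_5_0 : T.a x5 x0 = 0 := by rw [hsym]; exact hz_0_5
  have hz_6_0 : T.a x6 x0 = 0 := by rw [hsym]; exact hz_0_6
  have hz_7_0 : T.a x7 x0 = 0 := by rw [hsym]; exact hz_0_7
  have hz_2_1 : T.a x2 x1 = 0 := by rw [hsym]; exact hz_1_2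
  have hz_3_1 : T.a x3 x1 = 0 := by rw [hsym]; exact hz_1_3
  have hz_4_1 : T.a x4 x1 = 0 := by rw [hsym]; exact hz_1_4
  have hz_5_1 : T.a x5 x1 = 0 := by rw [hsym]; exact hz_1_5
  have hz_6_1 : T.a x6 x1 = 0 := by rw [hsym]; exact hz_1_6
  have hz_7_1 : T.a x7 x1 = 0 := by rw [hsym]; exact hz_1_7
  have hz_3_2 : T.a x3 x2 = 0 := by rw [hsym]; exact hz_2_3
  have hz_4_2 : T.a x4 x2 = 0 := by rw [hsym]; exact hz_2_4
  have hz_5_2 : T.a x5 x2 = 0 := by rw [hsym]; exact hz_2_5
  have hz_6_2 : T.a x6 x2 = 0 := by rw [hsym]; exact hz_2_6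
  have hz_7_2 : T.a x7 x2 = 0 := by rw [hsym]; exact hz_2_7
  have hadj_4_3 : T.a x4 x3 ≠ 0 := by rw [hsym]; exact hadj_3_4
  have hl_3_4 := NT.lb1 T _ _ hne_3_4 hadj_3_4
  have hl_4_3 := NT.lb1 T _ _ hne_3_4.symm hadj_4_3
  have hs_3_4 : T.a x3 x4 = T.a x4 x3 := hsym _ _
  have hz_5_3 : T.a x5 x3 = 0 := by rw [hsym]; exact hz_3_5
  have hz_6_3 : T.a x6 x3 = 0 := by rw [hsym]; exact hz_3_6
  have hz_7_3 : T.a x7 x3 = 0 := by rw [hsym]; exact hz_3_7
  have hadj_5_4 : T.a x5 x4 ≠ 0 := by rw [hsym]; exact hadj_4_5
  have hl_4_5 := NT.lb1 T _ _ hne_4_5 hadj_4_5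
  have hl_5_4 := NT.lb1 T _ _ hne_4_5.symm hadj_5_4
  have hs_4_5 : T.a x4 x5 = T.a x5 x4 := hsym _ _
  have hz_6_4 : T.a x6 x4 = 0 := by rw [hsym]; exact hz_4_6
  have hz_7_4 : T.a x7 x4 = 0 := by rw [hsym]; exact hz_4_7
  have hadj_6_5 : T.a x6 x5 ≠ 0 := by rw [hsym]; exact hadj_5_6
  have hl_5_6 := NT.lb1 T _ _ hne_5_6 hadj_5_6
  have hl_6_5 := NT.lb1 T _ _ hne_5_6.symm hadj_6_5
  have hs_5_6 : T.a x5 x6 = T.a x6 x5 := hsym _ _
  have hz_7_5 : T.a x7 x5 = 0 := by rw [hsym]; exact hz_5_7
  have hadj_7_6 : T.a x7 x6 ≠ 0 := by rw [hsym]; exact hadj_6_7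
  have hl_6_7 := NT.lb1 T _ _ hne_6_7 hadj_6_7
  have hl_7_6 := NT.lb1 T _ _ hne_6_7.symm hadj_7_6
  have hs_6_7 : T.a x6 x7 = T.a x7 x6 := hsym _ _
  have hinj : Function.Injective ![x0, x1, x2, x3, x4, x5, x6, x7] := NT.inj8 _ _ _ _ _ _ _ _ hne_0_1 hne_0_2 hne_0_3 hne_0_4 hne_0_5 hne_0_6 hne_0_7 hne_1_2 hne_1_3 hne_1_4 hne_1_5 hne_1_6 hne_1_7 hne_2_3 hne_2_4 hne_2_5 hne_2_6 hne_2_7 hne_3_4 hne_3_5 hne_3_6 hne_3_7 hne_4_5 hne_4_6 hne_4_7 hne_5_6 hne_5_7 hne_6_7
  have hrow_0 : T.a x0 x0 * T.m x0 + T.a x0 x1 * T.m x1 + T.a x0 x2 * T.m x2 + T.a x0 x3 * T.m x3 + T.a x0 x4 * T.m x4 + T.a x0 x5 * T.m x5 + T.a x0 x6 * T.m x6 + T.a x0 x7 * T.m x7 = 0 := by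
    have h := NT.row_fun T _ hinj (0 : Fin 8)
    rw [Fin.sum_univ_eight] at h
    exact h
  have hrow_1 : T.a x1 x0 * T.m x0 + T.a x1 x1 * T.m x1 + T.a x1 x2 * T.m x2 + T.a x1 x3 * T.m x3 + T.a x1 x4 * T.m x4 + T.a x1 x5 * T.m x5 + T.a x1 x6 * T.m x6 + T.a x1 x7 * T.m x7 = 0 := by
    have h := NT.row_fun T _ hinj (1 : Fin 8)
    rw [Fin.sum_univ_eight] at h
    exact h
  have hrow_2 : T.a x2 x0 * T.m x0 + T.a x2 x1 * T.m x1 + T.a x2 x2 * T.m x2 + T.a x2 x3 * T.m x3 + T.a x2 x4 * T.m x4 + T.a x2 x5 * T.m x5 + T.a x2 x6 * T.m x6 + T.a x2 x7 * T.m x7 = 0 := by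
    have h := NT.row_fun T _ hinj (2 : Fin 8)
    rw [Fin.sum_univ_eight] at h
    exact h
  have hrow_3 : T.a x3 x0 * T.m x0 + T.a x3 x1 * T.m x1 + T.a x3 x2 * T.m x2 + T.a x3 x3 * T.m x3 + T.a x3 x4 * T.m x4 + T.a x3 x5 * T.m x5 + T.a x3 x6 * T.m x6 + T.a x3 x7 * T.m x7 = 0 := by
    have h := NT.row_fun T _ hinj (3 : Fin 8)
    rw [Fin.sum_univ_eight] at h
    exact h
  have hrow_4 : T.a x4 x0 * T.m x0 + T.a x4 x1 * T.m x1 + T.a x4 x2 * T.m x2 + T.a x4 x3 * T.m x3 + T.a x4 x4 * T.m x4 + T.a x4 x5 * T.m x5 + T.a x4 x6 * T.m x6 + T.a x4 x7 * T.m x7 = 0 := by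
    have h := NT.row_fun T _ hinj (4 : Fin 8)
    rw [Fin.sum_univ_eight] at h
    exact h
  have hrow_5 : T.a x5 x0 * T.m x0 + T.a x5 x1 * T.m x1 + T.a x5 x2 * T.m x2 + T.a x5 x3 * T.m x3 + T.a x5 x4 * T.m x4 + T.a x5 x5 * T.m x5 + T.a x5 x6 * T.m x6 + T.a x5 x7 * T.m x7 = 0 := by
    have h := NT.row_fun T _ hinj (5 : Fin 8)
    rw [Fin.sum_univ_eight] at h
    exact h
  have hrow_6 : T.a x6 x0 * T.m x0 + T.a x6 x1 * T.m x1 + T.a x6 x2 * T.m x2 + T.a x6 x3 * T.m x3 + T.a x6 x4 * T.m x4 + T.a x6 x5 * T.m x5 + T.a x6 x6 * T.m x6 + T.a x6 x7 * T.m x7 = 0 := by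
    have h := NT.row_fun T _ hinj (6 : Fin 8)
    rw [Fin.sum_univ_eight] at h
    exact h
  have hrow_7 : T.a x7 x0 * T.m x0 + T.a x7 x1 * T.m x1 + T.a x7 x2 * T.m x2 + T.a x7 x3 * T.m x3 + T.a x7 x4 * T.m x4 + T.a x7 x5 * T.m x5 + T.a x7 x6 * T.m x6 + T.a x7 x7 * T.m x7 = 0 := by
    have h := NT.row_fun T _ hinj (7 : Fin 8)
    rw [Fin.sum_univ_eight] at h
    exact h
  rcases NT.edge3 T x0 x1 hne_0_1 hadj_0_1 with hx_0_1 | hx_0_1 | hx_0_1
  · rcases NT.edge3 T x1 x0 hne_0_1.symm hadj_1_0 with hx_1_0 | hx_1_0 | hx_1_0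
    · rcases NT.edge3 T x0 x2 hne_0_2 hadj_0_2 with hx_0_2 | hx_0_2 | hx_0_2
      · rcases NT.edge3 T x2 x0 hne_0_2.symm hadj_2_0 with hx_2_0 | hx_2_0 | hx_2_0
        · rcases NT.edge3 T x0 x3 hne_0_3 hadj_0_3 with hx_0_3 | hx_0_3 | hx_0_3
          · rcases NT.edge3 T x3 x0 hne_0_3.symm hadj_3_0 with hx_3_0 | hx_3_0 | hx_3_0
            · rcases NT.edge3 T x3 x4 hne_3_4 hadj_3_4 with hx_3_4 | hx_3_4 | hx_3_4
              · rcases NT.edge3 T x4 x3 hne_3_4.symm hadj_4_3 with hx_4_3 | hx_4_3 | hx_4_3
                · rcases NT.edge3 T x4 x5 hne_4_5 hadj_4_5 with hx_4_5 | hx_4_5 | hx_4_5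
                  · rcases NT.edge3 T x5 x4 hne_4_5.symm hadj_5_4 with hx_5_4 | hx_5_4 | hx_5_4
                    · rcases NT.edge3 T x5 x6 hne_5_6 hadj_5_6 with hx_5_6 | hx_5_6 | hx_5_6
                      · rcases NT.edge3 T x6 x5 hne_5_6.symm hadj_6_5 with hx_6_5 | hx_6_5 | hx_6_5
                        · rcases NT.edge3 T x6 x7 hne_6_7 hadj_6_7 with hx_6_7 | hx_6_7 | hx_6_7
                          · rcases NT.edge3 T x7 x6 hne_6_7.symm hadj_7_6 with hx_7_6 | hx_7_6 | hx_7_6
                            · have cw_0 : T.w x0 = T.w x0 := rfl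
                              have cw_1 : T.w x1 = T.w x0 := by linarith only [cw_0, hx_0_1, hx_1_0, hs_0_1]
                              have cw_2 : T.w x2 = T.w x0 := by linarith only [cw_0, hx_0_2, hx_2_0, hs_0_2]
                              have cw_3 : T.w x3 = T.w x0 := by linarith only [cw_0, hx_0_3, hx_3_0, hs_0_3]
                              have cw_4 : T.w x4 = T.w x0 := by linarith only [cw_3, hx_3_4, hx_4_3, hs_3_4]
                              have cw_5 : T.w x5 = T.w x0 := by linarith only [cw_4, hx_4_5, hx_5_4, hs_4_5]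
                              have cw_6 : T.w x6 = T.w x0 := by linarith only [cw_5, hx_5_6, hx_6_5, hs_5_6]
                              have cw_7 : T.w x7 = T.w x0 := by linarith only [cw_6, hx_6_7, hx_7_6, hs_6_7]
                              have ca_0_0 : T.a x0 x0 = -2 * T.w x0 := by linarith only [hd x0, cw_0]
                              have ca_0_1 : T.a x0 x1 = T.w x0 := by linarith only [hx_0_1, cw_0]
                              have ca_0_2 : T.a x0 x2 = T.w x0 := by linarith only [hx_0_2, cw_0]
                              have ca_0_3 : T.a x0 x3 = T.w x0 := by linarith only [hx_0_3, cw_0]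
                              have ca_1_0 : T.a x1 x0 = T.w x0 := by linarith only [hx_1_0, cw_1]
                              have ca_1_1 : T.a x1 x1 = -2 * T.w x0 := by linarith only [hd x1, cw_1]
                              have ca_2_0 : T.a x2 x0 = T.w x0 := by linarith only [hx_2_0, cw_2]
                              have ca_2_2 : T.a x2 x2 = -2 * T.w x0 := by linarith only [hd x2, cw_2]
                              have ca_3_0 : T.a x3 x0 = T.w x0 := by linarith only [hx_3_0, cw_3]
                              have ca_3_3 : T.a x3 x3 = -2 * T.w x0 := by linarith only [hd x3, cw_3]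
                              have ca_3_4 : T.a x3 x4 = T.w x0 := by linarith only [hx_3_4, cw_3]
                              have ca_4_3 : T.a x4 x3 = T.w x0 := by linarith only [hx_4_3, cw_4]
                              have ca_4_4 : T.a x4 x4 = -2 * T.w x0 := by linarith only [hd x4, cw_4]
                              have ca_4_5 : T.a x4 x5 = T.w x0 := by linarith only [hx_4_5, cw_4]
                              have ca_5_4 : T.a x5 x4 = T.w x0 := by linarith only [hx_5_4, cw_5]
                              have ca_5_5 : T.a x5 x5 = -2 * T.w x0 := by linarith only [hd x5, cw_5]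
                              have ca_5_6 : T.a x5 x6 = T.w x0 := by linarith only [hx_5_6, cw_5]
                              have ca_6_5 : T.a x6 x5 = T.w x0 := by linarith only [hx_6_5, cw_6]
                              have ca_6_6 : T.a x6 x6 = -2 * T.w x0 := by linarith only [hd x6, cw_6]
                              have ca_6_7 : T.a x6 x7 = T.w x0 := by linarith only [hx_6_7, cw_6]
                              have ca_7_6 : T.a x7 x6 = T.w x0 := by linarith only [hx_7_6, cw_7]
                              have ca_7_7 : T.a x7 x7 = -2 * T.w x0 := by linarith only [hd x7, cw_7]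
                              have hm_0 : -2 * T.m x0 + 1 * T.m x1 + 1 * T.m x2 + 1 * T.m x3 = 0 := by
                                have h := hrow_0
                                rw [ca_0_0, ca_0_1, ca_0_2, ca_0_3, hz_0_4, hz_0_5, hz_0_6, hz_0_7] at h
                                have h2 : T.w x0 * (-2 * T.m x0 + 1 * T.m x1 + 1 * T.m x2 + 1 * T.m x3) = 0 := by linarith only [h]
                                rcases mul_eq_zero.mp h2 with h3 | h3
                                · exact absurd h3 (hwp _).ne'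
                                · exact h3
                              have hm_1 : 1 * T.m x0 + -2 * T.m x1 = 0 := by
                                have h := hrow_1
                                rw [ca_1_0, ca_1_1, hz_1_2, hz_1_3, hz_1_4, hz_1_5, hz_1_6, hz_1_7] at h
                                have h2 : T.w x0 * (1 * T.m x0 + -2 * T.m x1) = 0 := by linarith only [h]
                                rcases mul_eq_zero.mp h2 with h3 | h3
                                · exact absurd h3 (hwp _).ne'
                                · exact h3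
                              have hm_2 : 1 * T.m x0 + -2 * T.m x2 = 0 := by
                                have h := hrow_2
                                rw [ca_2_0, hz_2_1, ca_2_2, hz_2_3, hz_2_4, hz_2_5, hz_2_6, hz_2_7] at h
                                have h2 : T.w x0 * (1 * T.m x0 + -2 * T.m x2) = 0 := by linarith only [h]
                                rcases mul_eq_zero.mp h2 with h3 | h3
                                · exact absurd h3 (hwp _).ne'
                                · exact h3
                              have hm_3 : 1 * T.m x0 + -2 * T.m x3 + 1 * T.m x4 = 0 := by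
                                have h := hrow_3
                                rw [ca_3_0, hz_3_1, hz_3_2, ca_3_3, ca_3_4, hz_3_5, hz_3_6, hz_3_7] at h
                                have h2 : T.w x0 * (1 * T.m x0 + -2 * T.m x3 + 1 * T.m x4) = 0 := by linarith only [h]
                                rcases mul_eq_zero.mp h2 with h3 | h3
                                · exact absurd h3 (hwp _).ne'
                                · exact h3
                              have hm_4 : 1 * T.m x3 + -2 * T.m x4 + 1 * T.m x5 = 0 := by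
                                have h := hrow_4
                                rw [hz_4_0, hz_4_1, hz_4_2, ca_4_3, ca_4_4, ca_4_5, hz_4_6, hz_4_7] at h
                                have h2 : T.w x0 * (1 * T.m x3 + -2 * T.m x4 + 1 * T.m x5) = 0 := by linarith only [h]
                                rcases mul_eq_zero.mp h2 with h3 | h3
                                · exact absurd h3 (hwp _).ne'
                                · exact h3
                              have hm_5 : 1 * T.m x4 + -2 * T.m x5 + 1 * T.m x6 = 0 := by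
                                have h := hrow_5
                                rw [hz_5_0, hz_5_1, hz_5_2, hz_5_3, ca_5_4, ca_5_5, ca_5_6, hz_5_7] at h
                                have h2 : T.w x0 * (1 * T.m x4 + -2 * T.m x5 + 1 * T.m x6) = 0 := by linarith only [h]
                                rcases mul_eq_zero.mp h2 with h3 | h3
                                · exact absurd h3 (hwp _).ne'
                                · exact h3
                              have hm_6 : 1 * T.m x5 + -2 * T.m x6 + 1 * T.m x7 = 0 := by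
                                have h := hrow_6
                                rw [hz_6_0, hz_6_1, hz_6_2, hz_6_3, hz_6_4, ca_6_5, ca_6_6, ca_6_7] at h
                                have h2 : T.w x0 * (1 * T.m x5 + -2 * T.m x6 + 1 * T.m x7) = 0 := by linarith only [h]
                                rcases mul_eq_zero.mp h2 with h3 | h3
                                · exact absurd h3 (hwp _).ne'
                                · exact h3
                              have hm_7 : 1 * T.m x6 + -2 * T.m x7 = 0 := by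
                                have h := hrow_7
                                rw [hz_7_0, hz_7_1, hz_7_2, hz_7_3, hz_7_4, hz_7_5, ca_7_6, ca_7_7] at h
                                have h2 : T.w x0 * (1 * T.m x6 + -2 * T.m x7) = 0 := by linarith only [h]
                                rcases mul_eq_zero.mp h2 with h3 | h3
                                · exact absurd h3 (hwp _).ne'
                                · exact h3
                              exfalso
                              linarith only [hm_0, hm_1, hm_2, hm_3, hm_4, hm_5, hm_6, hm_7, hmp x0, hmp x1, hmp x2, hmp x3, hmp x4, hmp x5, hmp x6, hmp x7]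
                            · have cw_7 : T.w x7 = T.w x7 := rfl
                              have cw_6 : T.w x6 = 2 * T.w x7 := by linarith only [cw_7, hx_7_6, hx_6_7, hs_6_7]
                              have cw_5 : T.w x5 = 2 * T.w x7 := by linarith only [cw_6, hx_6_5, hx_5_6, hs_5_6]
                              have cw_4 : T.w x4 = 2 * T.w x7 := by linarith only [cw_5, hx_5_4, hx_4_5, hs_4_5]
                              have cw_3 : T.w x3 = 2 * T.w x7 := by linarith only [cw_4, hx_4_3, hx_3_4, hs_3_4]
                              have cw_0 : T.w x0 = 2 * T.w x7 := by linarith only [cw_3, hx_3_0, hx_0_3, hs_0_3]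
                              have cw_1 : T.w x1 = 2 * T.w x7 := by linarith only [cw_0, hx_0_1, hx_1_0, hs_0_1]
                              have cw_2 : T.w x2 = 2 * T.w x7 := by linarith only [cw_0, hx_0_2, hx_2_0, hs_0_2]
                              have ca_0_0 : T.a x0 x0 = -4 * T.w x7 := by linarith only [hd x0, cw_0]
                              have ca_0_1 : T.a x0 x1 = 2 * T.w x7 := by linarith only [hx_0_1, cw_0]
                              have ca_0_2 : T.a x0 x2 = 2 * T.w x7 := by linarith only [hx_0_2, cw_0]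
                              have ca_0_3 : T.a x0 x3 = 2 * T.w x7 := by linarith only [hx_0_3, cw_0]
                              have ca_1_0 : T.a x1 x0 = 2 * T.w x7 := by linarith only [hx_1_0, cw_1]
                              have ca_1_1 : T.a x1 x1 = -4 * T.w x7 := by linarith only [hd x1, cw_1]
                              have ca_2_0 : T.a x2 x0 = 2 * T.w x7 := by linarith only [hx_2_0, cw_2]
                              have ca_2_2 : T.a x2 x2 = -4 * T.w x7 := by linarith only [hd x2, cw_2]
                              have ca_3_0 : T.a x3 x0 = 2 * T.w x7 := by linarith only [hx_3_0, cw_3]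
                              have ca_3_3 : T.a x3 x3 = -4 * T.w x7 := by linarith only [hd x3, cw_3]
                              have ca_3_4 : T.a x3 x4 = 2 * T.w x7 := by linarith only [hx_3_4, cw_3]
                              have ca_4_3 : T.a x4 x3 = 2 * T.w x7 := by linarith only [hx_4_3, cw_4]
                              have ca_4_4 : T.a x4 x4 = -4 * T.w x7 := by linarith only [hd x4, cw_4]
                              have ca_4_5 : T.a x4 x5 = 2 * T.w x7 := by linarith only [hx_4_5, cw_4]
                              have ca_5_4 : T.a x5 x4 = 2 * T.w x7 := by linarith only [hx_5_4, cw_5]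
                              have ca_5_5 : T.a x5 x5 = -4 * T.w x7 := by linarith only [hd x5, cw_5]
                              have ca_5_6 : T.a x5 x6 = 2 * T.w x7 := by linarith only [hx_5_6, cw_5]
                              have ca_6_5 : T.a x6 x5 = 2 * T.w x7 := by linarith only [hx_6_5, cw_6]
                              have ca_6_6 : T.a x6 x6 = -4 * T.w x7 := by linarith only [hd x6, cw_6]
                              have ca_6_7 : T.a x6 x7 = 2 * T.w x7 := by linarith only [hx_6_7, cw_6]
                              have ca_7_6 : T.a x7 x6 = 2 * T.w x7 := by linarith only [hx_7_6, cw_7]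
                              have ca_7_7 : T.a x7 x7 = -2 * T.w x7 := by linarith only [hd x7, cw_7]
                              have hm_0 : -4 * T.m x0 + 2 * T.m x1 + 2 * T.m x2 + 2 * T.m x3 = 0 := by
                                have h := hrow_0
                                rw [ca_0_0, ca_0_1, ca_0_2, ca_0_3, hz_0_4, hz_0_5, hz_0_6, hz_0_7] at h
                                have h2 : T.w x7 * (-4 * T.m x0 + 2 * T.m x1 + 2 * T.m x2 + 2 * T.m x3) = 0 := by linarith only [h]
                                rcases mul_eq_zero.mp h2 with h3 | h3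
                                · exact absurd h3 (hwp _).ne'
                                · exact h3
                              have hm_1 : 2 * T.m x0 + -4 * T.m x1 = 0 := by
                                have h := hrow_1
                                rw [ca_1_0, ca_1_1, hz_1_2, hz_1_3, hz_1_4, hz_1_5, hz_1_6, hz_1_7] at h
                                have h2 : T.w x7 * (2 * T.m x0 + -4 * T.m x1) = 0 := by linarith only [h]
                                rcases mul_eq_zero.mp h2 with h3 | h3
                                · exact absurd h3 (hwp _).ne'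
                                · exact h3
                              have hm_2 : 2 * T.m x0 + -4 * T.m x2 = 0 := by
                                have h := hrow_2
                                rw [ca_2_0, hz_2_1, ca_2_2, hz_2_3, hz_2_4, hz_2_5, hz_2_6, hz_2_7] at h
                                have h2 : T.w x7 * (2 * T.m x0 + -4 * T.m x2) = 0 := by linarith only [h]
                                rcases mul_eq_zero.mp h2 with h3 | h3
                                · exact absurd h3 (hwp _).ne'
                                · exact h3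
                              have hm_3 : 2 * T.m x0 + -4 * T.m x3 + 2 * T.m x4 = 0 := by
                                have h := hrow_3
                                rw [ca_3_0, hz_3_1, hz_3_2, ca_3_3, ca_3_4, hz_3_5, hz_3_6, hz_3_7] at h
                                have h2 : T.w x7 * (2 * T.m x0 + -4 * T.m x3 + 2 * T.m x4) = 0 := by linarith only [h]
                                rcases mul_eq_zero.mp h2 with h3 | h3
                                · exact absurd h3 (hwp _).ne'
                                · exact h3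
                              have hm_4 : 2 * T.m x3 + -4 * T.m x4 + 2 * T.m x5 = 0 := by
                                have h := hrow_4
                                rw [hz_4_0, hz_4_1, hz_4_2, ca_4_3, ca_4_4, ca_4_5, hz_4_6, hz_4_7] at h
                                have h2 : T.w x7 * (2 * T.m x3 + -4 * T.m x4 + 2 * T.m x5) = 0 := by linarith only [h]
                                rcases mul_eq_zero.mp h2 with h3 | h3
                                · exact absurd h3 (hwp _).ne'
                                · exact h3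
                              have hm_5 : 2 * T.m x4 + -4 * T.m x5 + 2 * T.m x6 = 0 := by
                                have h := hrow_5
                                rw [hz_5_0, hz_5_1, hz_5_2, hz_5_3, ca_5_4, ca_5_5, ca_5_6, hz_5_7] at h
                                have h2 : T.w x7 * (2 * T.m x4 + -4 * T.m x5 + 2 * T.m x6) = 0 := by linarith only [h]
                                rcases mul_eq_zero.mp h2 with h3 | h3
                                · exact absurd h3 (hwp _).ne'
                                · exact h3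
                              have hm_6 : 2 * T.m x5 + -4 * T.m x6 + 2 * T.m x7 = 0 := by
                                have h := hrow_6
                                rw [hz_6_0, hz_6_1, hz_6_2, hz_6_3, hz_6_4, ca_6_5, ca_6_6, ca_6_7] at h
                                have h2 : T.w x7 * (2 * T.m x5 + -4 * T.m x6 + 2 * T.m x7) = 0 := by linarith only [h]
                                rcases mul_eq_zero.mp h2 with h3 | h3
                                · exact absurd h3 (hwp _).ne'
                                · exact h3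
                              have hm_7 : 2 * T.m x6 + -2 * T.m x7 = 0 := by
                                have h := hrow_7
                                rw [hz_7_0, hz_7_1, hz_7_2, hz_7_3, hz_7_4, hz_7_5, ca_7_6, ca_7_7] at h
                                have h2 : T.w x7 * (2 * T.m x6 + -2 * T.m x7) = 0 := by linarith only [h]
                                rcases mul_eq_zero.mp h2 with h3 | h3
                                · exact absurd h3 (hwp _).ne'
                                · exact h3
                              have cmu_0 : T.m x0 = 2 * T.m x1 := by linarith only [hm_0, hm_1, hm_2, hm_3, hm_4, hm_5, hm_6, hm_7]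
                              have cmu_1 : T.m x1 = T.m x1 := rfl
                              have cmu_2 : T.m x2 = T.m x1 := by linarith only [hm_0, hm_1, hm_2, hm_3, hm_4, hm_5, hm_6, hm_7]
                              have cmu_3 : T.m x3 = 2 * T.m x1 := by linarith only [hm_0, hm_1, hm_2, hm_3, hm_4, hm_5, hm_6, hm_7]
                              have cmu_4 : T.m x4 = 2 * T.m x1 := by linarith only [hm_0, hm_1, hm_2, hm_3, hm_4, hm_5, hm_6, hm_7]
                              have cmu_5 : T.m x5 = 2 * T.m x1 := by linarith only [hm_0, hm_1, hm_2, hm_3, hm_4, hm_5, hm_6, hm_7]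
                              have cmu_6 : T.m x6 = 2 * T.m x1 := by linarith only [hm_0, hm_1, hm_2, hm_3, hm_4, hm_5, hm_6, hm_7]
                              have cmu_7 : T.m x7 = 2 * T.m x1 := by linarith only [hm_0, hm_1, hm_2, hm_3, hm_4, hm_5, hm_6, hm_7]
                              have hinjσ : Function.Injective ![x7, x6, x5, x4, x3, x0, x1, x2] := NT.inj8 _ _ _ _ _ _ _ _ hne_6_7.symm hne_5_7.symm hne_4_7.symm hne_3_7.symm hne_0_7.symm hne_1_7.symm hne_2_7.symm hne_5_6.symm hne_4_6.symm hne_3_6.symm hne_0_6.symm hne_1_6.symm hne_2_6.symm hne_4_5.symm hne_3_5.symm hne_0_5.symm hne_1_5.symm hne_2_5.symm hne_3_4.symm hne_0_4.symm hne_1_4.symm hne_2_4.symm hne_0_3.symm hne_1_3.symm hne_2_3.symm hne_0_1 hne_0_2 hne_1_2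
                              exact ⟨Equiv.ofBijective ![x7, x6, x5, x4, x3, x0, x1, x2] ⟨hinjσ, Finite.surjective_of_injective hinjσ⟩, T.m x1, T.w x7, Or.inr (Or.inr (Or.inr (Or.inr (Or.inr (Or.inl ⟨cmu_7, cmu_6, cmu_5, cmu_4, cmu_3, cmu_0, cmu_1, cmu_2, cw_7, cw_6, cw_5, cw_4, cw_3, cw_0, cw_1, cw_2, ca_7_7, ca_7_6, hz_7_5, hz_7_4, hz_7_3, hz_7_0, hz_7_1, hz_7_2, ca_6_6, ca_6_5, hz_6_4, hz_6_3, hz_6_0, hz_6_1, hz_6_2, ca_5_5, ca_5_4, hz_5_3, hz_5_0, hz_5_1, hz_5_2, ca_4_4, ca_4_3, hz_4_0, hz_4_1, hz_4_2, ca_3_3, ca_3_0, hz_3_1, hz_3_2, ca_0_0, ca_0_1, ca_0_2, ca_1_1, hz_1_2, ca_2_2⟩)))))⟩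
                            · exfalso
                              refine NT.cert3 T x5 x6 x7 hne_5_6 hne_5_7 hne_6_7 (by norm_num) 1 2 3 (by norm_num) (by norm_num) (by norm_num) ?_ ?_ ?_
                              · linarith only [hd x5, hwp x5, hx_5_6.ge, hnn x5 x7 hne_5_7]
                              · linarith only [hd x6, hwp x6, hx_6_5.ge, hx_6_7.ge]
                              · linarith only [hd x7, hwp x7, hnn x7 x5 hne_5_7.symm, hx_7_6]
                          · obtain ⟨heq_0, heq_1, heq_2, heq_3, heq_4, heq_5, heq_6, heq_7⟩ := NT.harm8 T x0 x1 x2 x3 x4 x5 x6 x7 hne_0_1 hne_0_2 hne_0_3 hne_0_4 hne_0_5 hne_0_6 hne_0_7 hne_1_2 hne_1_3 hne_1_4 hne_1_5 hne_1_6 hne_1_7 hne_2_3 hne_2_4 hne_2_5 hne_2_6 hne_2_7 hne_3_4 hne_3_5 hne_3_6 hne_3_7 hne_4_5 hne_4_6 hne_4_7 hne_5_6 hne_5_7 hne_6_7 2 1 1 2 2 2 2 1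
                              (by linarith only [hd x0, hx_0_1.ge, hx_0_2.ge, hx_0_3.ge, hz_0_4, hz_0_5, hz_0_6, hz_0_7])
                              (by linarith only [hd x1, hx_1_0.ge, hz_1_2, hz_1_3, hz_1_4, hz_1_5, hz_1_6, hz_1_7])
                              (by linarith only [hd x2, hx_2_0.ge, hz_2_1, hz_2_3, hz_2_4, hz_2_5, hz_2_6, hz_2_7])
                              (by linarith only [hd x3, hx_3_0.ge, hz_3_1, hz_3_2, hx_3_4.ge, hz_3_5, hz_3_6, hz_3_7])
                              (by linarith only [hd x4, hz_4_0, hz_4_1, hz_4_2, hx_4_3.ge, hx_4_5.ge, hz_4_6, hz_4_7])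
                              (by linarith only [hd x5, hz_5_0, hz_5_1, hz_5_2, hz_5_3, hx_5_4.ge, hx_5_6.ge, hz_5_7])
                              (by linarith only [hd x6, hz_6_0, hz_6_1, hz_6_2, hz_6_3, hz_6_4, hx_6_5.ge, hx_6_7.ge])
                              (by linarith only [hd x7, hz_7_0, hz_7_1, hz_7_2, hz_7_3, hz_7_4, hz_7_5, hl_7_6])
                            have hx_7_6 : T.a x7 x6 = T.w x7 := by linarith only [heq_7, hwp x7, hd x7, hz_7_0, hz_7_1, hz_7_2, hz_7_3, hz_7_4, hz_7_5, hl_7_6]
                            have cw_6 : T.w x6 = T.w x6 := rfl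
                            have cw_5 : T.w x5 = T.w x6 := by linarith only [cw_6, hx_6_5, hx_5_6, hs_5_6]
                            have cw_7 : T.w x7 = 2 * T.w x6 := by linarith only [cw_6, hx_6_7, hx_7_6, hs_6_7]
                            have cw_4 : T.w x4 = T.w x6 := by linarith only [cw_5, hx_5_4, hx_4_5, hs_4_5]
                            have cw_3 : T.w x3 = T.w x6 := by linarith only [cw_4, hx_4_3, hx_3_4, hs_3_4]
                            have cw_0 : T.w x0 = T.w x6 := by linarith only [cw_3, hx_3_0, hx_0_3, hs_0_3]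
                            have cw_1 : T.w x1 = T.w x6 := by linarith only [cw_0, hx_0_1, hx_1_0, hs_0_1]
                            have cw_2 : T.w x2 = T.w x6 := by linarith only [cw_0, hx_0_2, hx_2_0, hs_0_2]
                            have ca_0_0 : T.a x0 x0 = -2 * T.w x6 := by linarith only [hd x0, cw_0]
                            have ca_0_1 : T.a x0 x1 = T.w x6 := by linarith only [hx_0_1, cw_0]
                            have ca_0_2 : T.a x0 x2 = T.w x6 := by linarith only [hx_0_2, cw_0]
                            have ca_0_3 : T.a x0 x3 = T.w x6 := by linarith only [hx_0_3, cw_0]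
                            have ca_1_0 : T.a x1 x0 = T.w x6 := by linarith only [hx_1_0, cw_1]
                            have ca_1_1 : T.a x1 x1 = -2 * T.w x6 := by linarith only [hd x1, cw_1]
                            have ca_2_0 : T.a x2 x0 = T.w x6 := by linarith only [hx_2_0, cw_2]
                            have ca_2_2 : T.a x2 x2 = -2 * T.w x6 := by linarith only [hd x2, cw_2]
                            have ca_3_0 : T.a x3 x0 = T.w x6 := by linarith only [hx_3_0, cw_3]
                            have ca_3_3 : T.a x3 x3 = -2 * T.w x6 := by linarith only [hd x3, cw_3]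
                            have ca_3_4 : T.a x3 x4 = T.w x6 := by linarith only [hx_3_4, cw_3]
                            have ca_4_3 : T.a x4 x3 = T.w x6 := by linarith only [hx_4_3, cw_4]
                            have ca_4_4 : T.a x4 x4 = -2 * T.w x6 := by linarith only [hd x4, cw_4]
                            have ca_4_5 : T.a x4 x5 = T.w x6 := by linarith only [hx_4_5, cw_4]
                            have ca_5_4 : T.a x5 x4 = T.w x6 := by linarith only [hx_5_4, cw_5]
                            have ca_5_5 : T.a x5 x5 = -2 * T.w x6 := by linarith only [hd x5, cw_5]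
                            have ca_5_6 : T.a x5 x6 = T.w x6 := by linarith only [hx_5_6, cw_5]
                            have ca_6_5 : T.a x6 x5 = T.w x6 := by linarith only [hx_6_5, cw_6]
                            have ca_6_6 : T.a x6 x6 = -2 * T.w x6 := by linarith only [hd x6, cw_6]
                            have ca_6_7 : T.a x6 x7 = 2 * T.w x6 := by linarith only [hx_6_7, cw_6]
                            have ca_7_6 : T.a x7 x6 = 2 * T.w x6 := by linarith only [hx_7_6, cw_7]
                            have ca_7_7 : T.a x7 x7 = -4 * T.w x6 := by linarith only [hd x7, cw_7]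
                            have hm_0 : -2 * T.m x0 + 1 * T.m x1 + 1 * T.m x2 + 1 * T.m x3 = 0 := by
                              have h := hrow_0
                              rw [ca_0_0, ca_0_1, ca_0_2, ca_0_3, hz_0_4, hz_0_5, hz_0_6, hz_0_7] at h
                              have h2 : T.w x6 * (-2 * T.m x0 + 1 * T.m x1 + 1 * T.m x2 + 1 * T.m x3) = 0 := by linarith only [h]
                              rcases mul_eq_zero.mp h2 with h3 | h3
                              · exact absurd h3 (hwp _).ne'
                              · exact h3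
                            have hm_1 : 1 * T.m x0 + -2 * T.m x1 = 0 := by
                              have h := hrow_1
                              rw [ca_1_0, ca_1_1, hz_1_2, hz_1_3, hz_1_4, hz_1_5, hz_1_6, hz_1_7] at h
                              have h2 : T.w x6 * (1 * T.m x0 + -2 * T.m x1) = 0 := by linarith only [h]
                              rcases mul_eq_zero.mp h2 with h3 | h3
                              · exact absurd h3 (hwp _).ne'
                              · exact h3
                            have hm_2 : 1 * T.m x0 + -2 * T.m x2 = 0 := by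
                              have h := hrow_2
                              rw [ca_2_0, hz_2_1, ca_2_2, hz_2_3, hz_2_4, hz_2_5, hz_2_6, hz_2_7] at h
                              have h2 : T.w x6 * (1 * T.m x0 + -2 * T.m x2) = 0 := by linarith only [h]
                              rcases mul_eq_zero.mp h2 with h3 | h3
                              · exact absurd h3 (hwp _).ne'
                              · exact h3
                            have hm_3 : 1 * T.m x0 + -2 * T.m x3 + 1 * T.m x4 = 0 := by
                              have h := hrow_3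
                              rw [ca_3_0, hz_3_1, hz_3_2, ca_3_3, ca_3_4, hz_3_5, hz_3_6, hz_3_7] at h
                              have h2 : T.w x6 * (1 * T.m x0 + -2 * T.m x3 + 1 * T.m x4) = 0 := by linarith only [h]
                              rcases mul_eq_zero.mp h2 with h3 | h3
                              · exact absurd h3 (hwp _).ne'
                              · exact h3
                            have hm_4 : 1 * T.m x3 + -2 * T.m x4 + 1 * T.m x5 = 0 := by
                              have h := hrow_4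
                              rw [hz_4_0, hz_4_1, hz_4_2, ca_4_3, ca_4_4, ca_4_5, hz_4_6, hz_4_7] at h
                              have h2 : T.w x6 * (1 * T.m x3 + -2 * T.m x4 + 1 * T.m x5) = 0 := by linarith only [h]
                              rcases mul_eq_zero.mp h2 with h3 | h3
                              · exact absurd h3 (hwp _).ne'
                              · exact h3
                            have hm_5 : 1 * T.m x4 + -2 * T.m x5 + 1 * T.m x6 = 0 := by
                              have h := hrow_5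
                              rw [hz_5_0, hz_5_1, hz_5_2, hz_5_3, ca_5_4, ca_5_5, ca_5_6, hz_5_7] at h
                              have h2 : T.w x6 * (1 * T.m x4 + -2 * T.m x5 + 1 * T.m x6) = 0 := by linarith only [h]
                              rcases mul_eq_zero.mp h2 with h3 | h3
                              · exact absurd h3 (hwp _).ne'
                              · exact h3
                            have hm_6 : 1 * T.m x5 + -2 * T.m x6 + 2 * T.m x7 = 0 := by
                              have h := hrow_6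
                              rw [hz_6_0, hz_6_1, hz_6_2, hz_6_3, hz_6_4, ca_6_5, ca_6_6, ca_6_7] at h
                              have h2 : T.w x6 * (1 * T.m x5 + -2 * T.m x6 + 2 * T.m x7) = 0 := by linarith only [h]
                              rcases mul_eq_zero.mp h2 with h3 | h3
                              · exact absurd h3 (hwp _).ne'
                              · exact h3
                            have hm_7 : 2 * T.m x6 + -4 * T.m x7 = 0 := by
                              have h := hrow_7
                              rw [hz_7_0, hz_7_1, hz_7_2, hz_7_3, hz_7_4, hz_7_5, ca_7_6, ca_7_7] at h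
                              have h2 : T.w x6 * (2 * T.m x6 + -4 * T.m x7) = 0 := by linarith only [h]
                              rcases mul_eq_zero.mp h2 with h3 | h3
                              · exact absurd h3 (hwp _).ne'
                              · exact h3
                            have cmu_0 : T.m x0 = 2 * T.m x7 := by linarith only [hm_0, hm_1, hm_2, hm_3, hm_4, hm_5, hm_6, hm_7]
                            have cmu_1 : T.m x1 = T.m x7 := by linarith only [hm_0, hm_1, hm_2, hm_3, hm_4, hm_5, hm_6, hm_7]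
                            have cmu_2 : T.m x2 = T.m x7 := by linarith only [hm_0, hm_1, hm_2, hm_3, hm_4, hm_5, hm_6, hm_7]
                            have cmu_3 : T.m x3 = 2 * T.m x7 := by linarith only [hm_0, hm_1, hm_2, hm_3, hm_4, hm_5, hm_6, hm_7]
                            have cmu_4 : T.m x4 = 2 * T.m x7 := by linarith only [hm_0, hm_1, hm_2, hm_3, hm_4, hm_5, hm_6, hm_7]
                            have cmu_5 : T.m x5 = 2 * T.m x7 := by linarith only [hm_0, hm_1, hm_2, hm_3, hm_4, hm_5, hm_6, hm_7]
                            have cmu_6 : T.m x6 = 2 * T.m x7 := by linarith only [hm_0, hm_1, hm_2, hm_3, hm_4, hm_5, hm_6, hm_7]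
                            have cmu_7 : T.m x7 = T.m x7 := rfl
                            have hinjσ : Function.Injective ![x7, x6, x5, x4, x3, x0, x1, x2] := NT.inj8 _ _ _ _ _ _ _ _ hne_6_7.symm hne_5_7.symm hne_4_7.symm hne_3_7.symm hne_0_7.symm hne_1_7.symm hne_2_7.symm hne_5_6.symm hne_4_6.symm hne_3_6.symm hne_0_6.symm hne_1_6.symm hne_2_6.symm hne_4_5.symm hne_3_5.symm hne_0_5.symm hne_1_5.symm hne_2_5.symm hne_3_4.symm hne_0_4.symm hne_1_4.symm hne_2_4.symm hne_0_3.symm hne_1_3.symm hne_2_3.symm hne_0_1 hne_0_2 hne_1_2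
                            exact ⟨Equiv.ofBijective ![x7, x6, x5, x4, x3, x0, x1, x2] ⟨hinjσ, Finite.surjective_of_injective hinjσ⟩, T.m x7, T.w x6, Or.inr (Or.inr (Or.inr (Or.inr (Or.inl ⟨cmu_7, cmu_6, cmu_5, cmu_4, cmu_3, cmu_0, cmu_1, cmu_2, cw_7, cw_6, cw_5, cw_4, cw_3, cw_0, cw_1, cw_2, ca_7_7, ca_7_6, hz_7_5, hz_7_4, hz_7_3, hz_7_0, hz_7_1, hz_7_2, ca_6_6, ca_6_5, hz_6_4, hz_6_3, hz_6_0, hz_6_1, hz_6_2, ca_5_5, ca_5_4, hz_5_3, hz_5_0, hz_5_1, hz_5_2, ca_4_4, ca_4_3, hz_4_0, hz_4_1, hz_4_2, ca_3_3, ca_3_0, hz_3_1, hz_3_2, ca_0_0, ca_0_1, ca_0_2, ca_1_1, hz_1_2, ca_2_2⟩))))⟩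
                          · exfalso
                            refine NT.cert3 T x5 x6 x7 hne_5_6 hne_5_7 hne_6_7 (by norm_num) 1 2 1 (by norm_num) (by norm_num) (by norm_num) ?_ ?_ ?_
                            · linarith only [hd x5, hwp x5, hx_5_6.ge, hnn x5 x7 hne_5_7]
                            · linarith only [hd x6, hwp x6, hx_6_5.ge, hx_6_7]
                            · linarith only [hd x7, hwp x7, hnn x7 x5 hne_5_7.symm, hl_7_6]
                        · exfalso
                          refine NT.cert5 T x3 x4 x5 x6 x7 hne_3_4 hne_3_5 hne_3_6 hne_3_7 hne_4_5 hne_4_6 hne_4_7 hne_5_6 hne_5_7 hne_6_7 (by norm_num) 1 2 3 4 2 (by norm_num) (by norm_num) (by norm_num) (by norm_num) (by norm_num) ?_ ?_ ?_ ?_ ?_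
                          · linarith only [hd x3, hwp x3, hx_3_4.ge, hnn x3 x5 hne_3_5, hnn x3 x6 hne_3_6, hnn x3 x7 hne_3_7]
                          · linarith only [hd x4, hwp x4, hx_4_3.ge, hx_4_5.ge, hnn x4 x6 hne_4_6, hnn x4 x7 hne_4_7]
                          · linarith only [hd x5, hwp x5, hnn x5 x3 hne_3_5.symm, hx_5_4.ge, hx_5_6.ge, hnn x5 x7 hne_5_7]
                          · linarith only [hd x6, hwp x6, hnn x6 x3 hne_3_6.symm, hnn x6 x4 hne_4_6.symm, hx_6_5.ge, hl_6_7]
                          · linarith only [hd x7, hwp x7, hnn x7 x3 hne_3_7.symm, hnn x7 x4 hne_4_7.symm, hnn x7 x5 hne_5_7.symm, hl_7_6]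
                        · exfalso
                          refine NT.cert3 T x4 x5 x6 hne_4_5 hne_4_6 hne_5_6 (by norm_num) 1 2 3 (by norm_num) (by norm_num) (by norm_num) ?_ ?_ ?_
                          · linarith only [hd x4, hwp x4, hx_4_5.ge, hnn x4 x6 hne_4_6]
                          · linarith only [hd x5, hwp x5, hx_5_4.ge, hx_5_6.ge]
                          · linarith only [hd x6, hwp x6, hnn x6 x4 hne_4_6.symm, hx_6_5]
                      · exfalso
                        refine NT.cert5 T x3 x4 x5 x6 x7 hne_3_4 hne_3_5 hne_3_6 hne_3_7 hne_4_5 hne_4_6 hne_4_7 hne_5_6 hne_5_7 hne_6_7 (by norm_num) 1 2 3 2 1 (by norm_num) (by norm_num) (by norm_num) (by norm_num) (by norm_num) ?_ ?_ ?_ ?_ ?_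
                        · linarith only [hd x3, hwp x3, hx_3_4.ge, hnn x3 x5 hne_3_5, hnn x3 x6 hne_3_6, hnn x3 x7 hne_3_7]
                        · linarith only [hd x4, hwp x4, hx_4_3.ge, hx_4_5.ge, hnn x4 x6 hne_4_6, hnn x4 x7 hne_4_7]
                        · linarith only [hd x5, hwp x5, hnn x5 x3 hne_3_5.symm, hx_5_4.ge, hx_5_6.ge, hnn x5 x7 hne_5_7]
                        · linarith only [hd x6, hwp x6, hnn x6 x3 hne_3_6.symm, hnn x6 x4 hne_4_6.symm, hl_6_5, hl_6_7]
                        · linarith only [hd x7, hwp x7, hnn x7 x3 hne_3_7.symm, hnn x7 x4 hne_4_7.symm, hnn x7 x5 hne_5_7.symm, hl_7_6]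
                      · exfalso
                        refine NT.cert3 T x4 x5 x6 hne_4_5 hne_4_6 hne_5_6 (by norm_num) 1 2 1 (by norm_num) (by norm_num) (by norm_num) ?_ ?_ ?_
                        · linarith only [hd x4, hwp x4, hx_4_5.ge, hnn x4 x6 hne_4_6]
                        · linarith only [hd x5, hwp x5, hx_5_4.ge, hx_5_6]
                        · linarith only [hd x6, hwp x6, hnn x6 x4 hne_4_6.symm, hl_6_5]
                    · exfalso
                      refine NT.cert5 T x0 x3 x4 x5 x6 hne_0_3 hne_0_4 hne_0_5 hne_0_6 hne_3_4 hne_3_5 hne_3_6 hne_4_5 hne_4_6 hne_5_6 (by norm_num) 1 2 3 4 2 (by norm_num) (by norm_num) (by norm_num) (by norm_num) (by norm_num) ?_ ?_ ?_ ?_ ?_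
                      · linarith only [hd x0, hwp x0, hx_0_3.ge, hnn x0 x4 hne_0_4, hnn x0 x5 hne_0_5, hnn x0 x6 hne_0_6]
                      · linarith only [hd x3, hwp x3, hx_3_0.ge, hx_3_4.ge, hnn x3 x5 hne_3_5, hnn x3 x6 hne_3_6]
                      · linarith only [hd x4, hwp x4, hnn x4 x0 hne_0_4.symm, hx_4_3.ge, hx_4_5.ge, hnn x4 x6 hne_4_6]
                      · linarith only [hd x5, hwp x5, hnn x5 x0 hne_0_5.symm, hnn x5 x3 hne_3_5.symm, hx_5_4.ge, hl_5_6]
                      · linarith only [hd x6, hwp x6, hnn x6 x0 hne_0_6.symm, hnn x6 x3 hne_3_6.symm, hnn x6 x4 hne_4_6.symm, hl_6_5]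
                    · exfalso
                      refine NT.cert3 T x3 x4 x5 hne_3_4 hne_3_5 hne_4_5 (by norm_num) 1 2 3 (by norm_num) (by norm_num) (by norm_num) ?_ ?_ ?_
                      · linarith only [hd x3, hwp x3, hx_3_4.ge, hnn x3 x5 hne_3_5]
                      · linarith only [hd x4, hwp x4, hx_4_3.ge, hx_4_5.ge]
                      · linarith only [hd x5, hwp x5, hnn x5 x3 hne_3_5.symm, hx_5_4]
                  · exfalso
                    refine NT.cert5 T x0 x3 x4 x5 x6 hne_0_3 hne_0_4 hne_0_5 hne_0_6 hne_3_4 hne_3_5 hne_3_6 hne_4_5 hne_4_6 hne_5_6 (by norm_num) 1 2 3 2 1 (by norm_num) (by norm_num) (by norm_num) (by norm_num) (by norm_num) ?_ ?_ ?_ ?_ ?_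
                    · linarith only [hd x0, hwp x0, hx_0_3.ge, hnn x0 x4 hne_0_4, hnn x0 x5 hne_0_5, hnn x0 x6 hne_0_6]
                    · linarith only [hd x3, hwp x3, hx_3_0.ge, hx_3_4.ge, hnn x3 x5 hne_3_5, hnn x3 x6 hne_3_6]
                    · linarith only [hd x4, hwp x4, hnn x4 x0 hne_0_4.symm, hx_4_3.ge, hx_4_5.ge, hnn x4 x6 hne_4_6]
                    · linarith only [hd x5, hwp x5, hnn x5 x0 hne_0_5.symm, hnn x5 x3 hne_3_5.symm, hl_5_4, hl_5_6]
                    · linarith only [hd x6, hwp x6, hnn x6 x0 hne_0_6.symm, hnn x6 x3 hne_3_6.symm, hnn x6 x4 hne_4_6.symm, hl_6_5]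
                  · exfalso
                    refine NT.cert3 T x3 x4 x5 hne_3_4 hne_3_5 hne_4_5 (by norm_num) 1 2 1 (by norm_num) (by norm_num) (by norm_num) ?_ ?_ ?_
                    · linarith only [hd x3, hwp x3, hx_3_4.ge, hnn x3 x5 hne_3_5]
                    · linarith only [hd x4, hwp x4, hx_4_3.ge, hx_4_5]
                    · linarith only [hd x5, hwp x5, hnn x5 x3 hne_3_5.symm, hl_5_4]
                · exfalso
                  refine NT.cert5 T x0 x1 x2 x3 x4 hne_0_1 hne_0_2 hne_0_3 hne_0_4 hne_1_2 hne_1_3 hne_1_4 hne_2_3 hne_2_4 hne_3_4 (by norm_num) 2 1 1 2 2 (by norm_num) (by norm_num) (by norm_num) (by norm_num) (by norm_num) ?_ ?_ ?_ ?_ ?_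
                  · linarith only [hd x0, hwp x0, hx_0_1.ge, hx_0_2.ge, hx_0_3.ge, hnn x0 x4 hne_0_4]
                  · linarith only [hd x1, hwp x1, hx_1_0.ge, hnn x1 x2 hne_1_2, hnn x1 x3 hne_1_3, hnn x1 x4 hne_1_4]
                  · linarith only [hd x2, hwp x2, hx_2_0.ge, hnn x2 x1 hne_1_2.symm, hnn x2 x3 hne_2_3, hnn x2 x4 hne_2_4]
                  · linarith only [hd x3, hwp x3, hx_3_0.ge, hnn x3 x1 hne_1_3.symm, hnn x3 x2 hne_2_3.symm, hx_3_4.ge]
                  · linarith only [hd x4, hwp x4, hnn x4 x0 hne_0_4.symm, hnn x4 x1 hne_1_4.symm, hnn x4 x2 hne_2_4.symm, hx_4_3.ge]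
                · exfalso
                  refine NT.cert3 T x0 x3 x4 hne_0_3 hne_0_4 hne_3_4 (by norm_num) 1 2 3 (by norm_num) (by norm_num) (by norm_num) ?_ ?_ ?_
                  · linarith only [hd x0, hwp x0, hx_0_3.ge, hnn x0 x4 hne_0_4]
                  · linarith only [hd x3, hwp x3, hx_3_0.ge, hx_3_4.ge]
                  · linarith only [hd x4, hwp x4, hnn x4 x0 hne_0_4.symm, hx_4_3]
              · exfalso
                refine NT.cert5 T x0 x1 x2 x3 x4 hne_0_1 hne_0_2 hne_0_3 hne_0_4 hne_1_2 hne_1_3 hne_1_4 hne_2_3 hne_2_4 hne_3_4 (by norm_num) 2 1 1 2 1 (by norm_num) (by norm_num) (by norm_num) (by norm_num) (by norm_num) ?_ ?_ ?_ ?_ ?_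
                · linarith only [hd x0, hwp x0, hx_0_1.ge, hx_0_2.ge, hx_0_3.ge, hnn x0 x4 hne_0_4]
                · linarith only [hd x1, hwp x1, hx_1_0.ge, hnn x1 x2 hne_1_2, hnn x1 x3 hne_1_3, hnn x1 x4 hne_1_4]
                · linarith only [hd x2, hwp x2, hx_2_0.ge, hnn x2 x1 hne_1_2.symm, hnn x2 x3 hne_2_3, hnn x2 x4 hne_2_4]
                · linarith only [hd x3, hwp x3, hx_3_0.ge, hnn x3 x1 hne_1_3.symm, hnn x3 x2 hne_2_3.symm, hx_3_4.ge]
                · linarith only [hd x4, hwp x4, hnn x4 x0 hne_0_4.symm, hnn x4 x1 hne_1_4.symm, hnn x4 x2 hne_2_4.symm, hl_4_3]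
              · exfalso
                refine NT.cert3 T x0 x3 x4 hne_0_3 hne_0_4 hne_3_4 (by norm_num) 1 2 1 (by norm_num) (by norm_num) (by norm_num) ?_ ?_ ?_
                · linarith only [hd x0, hwp x0, hx_0_3.ge, hnn x0 x4 hne_0_4]
                · linarith only [hd x3, hwp x3, hx_3_0.ge, hx_3_4]
                · linarith only [hd x4, hwp x4, hnn x4 x0 hne_0_4.symm, hl_4_3]
            · exfalso
              refine NT.cert4 T x0 x1 x2 x3 hne_0_1 hne_0_2 hne_0_3 hne_1_2 hne_1_3 hne_2_3 (by norm_num) 2 1 1 2 (by norm_num) (by norm_num) (by norm_num) (by norm_num) ?_ ?_ ?_ ?_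
              · linarith only [hd x0, hwp x0, hx_0_1.ge, hx_0_2.ge, hx_0_3.ge]
              · linarith only [hd x1, hwp x1, hx_1_0.ge, hnn x1 x2 hne_1_2, hnn x1 x3 hne_1_3]
              · linarith only [hd x2, hwp x2, hx_2_0.ge, hnn x2 x1 hne_1_2.symm, hnn x2 x3 hne_2_3]
              · linarith only [hd x3, hwp x3, hx_3_0.ge, hnn x3 x1 hne_1_3.symm, hnn x3 x2 hne_2_3.symm]
            · exfalso
              refine NT.cert3 T x0 x1 x3 hne_0_1 hne_0_3 hne_1_3 (by norm_num) 2 1 3 (by norm_num) (by norm_num) (by norm_num) ?_ ?_ ?_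
              · linarith only [hd x0, hwp x0, hx_0_1.ge, hx_0_3.ge]
              · linarith only [hd x1, hwp x1, hx_1_0.ge, hnn x1 x3 hne_1_3]
              · linarith only [hd x3, hwp x3, hx_3_0, hnn x3 x1 hne_1_3.symm]
          · exfalso
            refine NT.cert4 T x0 x1 x2 x3 hne_0_1 hne_0_2 hne_0_3 hne_1_2 hne_1_3 hne_2_3 (by norm_num) 2 1 1 1 (by norm_num) (by norm_num) (by norm_num) (by norm_num) ?_ ?_ ?_ ?_
            · linarith only [hd x0, hwp x0, hx_0_1.ge, hx_0_2.ge, hx_0_3.ge]
            · linarith only [hd x1, hwp x1, hx_1_0.ge, hnn x1 x2 hne_1_2, hnn x1 x3 hne_1_3]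
            · linarith only [hd x2, hwp x2, hx_2_0.ge, hnn x2 x1 hne_1_2.symm, hnn x2 x3 hne_2_3]
            · linarith only [hd x3, hwp x3, hl_3_0, hnn x3 x1 hne_1_3.symm, hnn x3 x2 hne_2_3.symm]
          · exfalso
            refine NT.cert3 T x0 x1 x3 hne_0_1 hne_0_3 hne_1_3 (by norm_num) 2 1 1 (by norm_num) (by norm_num) (by norm_num) ?_ ?_ ?_
            · linarith only [hd x0, hwp x0, hx_0_1.ge, hx_0_3]
            · linarith only [hd x1, hwp x1, hx_1_0.ge, hnn x1 x3 hne_1_3]
            · linarith only [hd x3, hwp x3, hl_3_0, hnn x3 x1 hne_1_3.symm]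
        · exfalso
          refine NT.cert4 T x0 x1 x2 x3 hne_0_1 hne_0_2 hne_0_3 hne_1_2 hne_1_3 hne_2_3 (by norm_num) 2 1 2 1 (by norm_num) (by norm_num) (by norm_num) (by norm_num) ?_ ?_ ?_ ?_
          · linarith only [hd x0, hwp x0, hx_0_1.ge, hx_0_2.ge, hl_0_3]
          · linarith only [hd x1, hwp x1, hx_1_0.ge, hnn x1 x2 hne_1_2, hnn x1 x3 hne_1_3]
          · linarith only [hd x2, hwp x2, hx_2_0.ge, hnn x2 x1 hne_1_2.symm, hnn x2 x3 hne_2_3]
          · linarith only [hd x3, hwp x3, hl_3_0, hnn x3 x1 hne_1_3.symm, hnn x3 x2 hne_2_3.symm]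
        · exfalso
          refine NT.cert3 T x0 x1 x2 hne_0_1 hne_0_2 hne_1_2 (by norm_num) 2 1 3 (by norm_num) (by norm_num) (by norm_num) ?_ ?_ ?_
          · linarith only [hd x0, hwp x0, hx_0_1.ge, hx_0_2.ge]
          · linarith only [hd x1, hwp x1, hx_1_0.ge, hnn x1 x2 hne_1_2]
          · linarith only [hd x2, hwp x2, hx_2_0, hnn x2 x1 hne_1_2.symm]
      · exfalso
        refine NT.cert4 T x0 x1 x2 x3 hne_0_1 hne_0_2 hne_0_3 hne_1_2 hne_1_3 hne_2_3 (by norm_num) 2 1 1 1 (by norm_num) (by norm_num) (by norm_num) (by norm_num) ?_ ?_ ?_ ?_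
        · linarith only [hd x0, hwp x0, hx_0_1.ge, hx_0_2.ge, hl_0_3]
        · linarith only [hd x1, hwp x1, hx_1_0.ge, hnn x1 x2 hne_1_2, hnn x1 x3 hne_1_3]
        · linarith only [hd x2, hwp x2, hl_2_0, hnn x2 x1 hne_1_2.symm, hnn x2 x3 hne_2_3]
        · linarith only [hd x3, hwp x3, hl_3_0, hnn x3 x1 hne_1_3.symm, hnn x3 x2 hne_2_3.symm]
      · exfalso
        refine NT.cert3 T x0 x1 x2 hne_0_1 hne_0_2 hne_1_2 (by norm_num) 2 1 1 (by norm_num) (by norm_num) (by norm_num) ?_ ?_ ?_
        · linarith only [hd x0, hwp x0, hx_0_1.ge, hx_0_2]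
        · linarith only [hd x1, hwp x1, hx_1_0.ge, hnn x1 x2 hne_1_2]
        · linarith only [hd x2, hwp x2, hl_2_0, hnn x2 x1 hne_1_2.symm]
    · exfalso
      refine NT.cert4 T x0 x1 x2 x3 hne_0_1 hne_0_2 hne_0_3 hne_1_2 hne_1_3 hne_2_3 (by norm_num) 2 2 1 1 (by norm_num) (by norm_num) (by norm_num) (by norm_num) ?_ ?_ ?_ ?_
      · linarith only [hd x0, hwp x0, hx_0_1.ge, hl_0_2, hl_0_3]
      · linarith only [hd x1, hwp x1, hx_1_0.ge, hnn x1 x2 hne_1_2, hnn x1 x3 hne_1_3]
      · linarith only [hd x2, hwp x2, hl_2_0, hnn x2 x1 hne_1_2.symm, hnn x2 x3 hne_2_3]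
      · linarith only [hd x3, hwp x3, hl_3_0, hnn x3 x1 hne_1_3.symm, hnn x3 x2 hne_2_3.symm]
    · exfalso
      refine NT.cert3 T x0 x1 x2 hne_0_1 hne_0_2 hne_1_2 (by norm_num) 2 3 1 (by norm_num) (by norm_num) (by norm_num) ?_ ?_ ?_
      · linarith only [hd x0, hwp x0, hx_0_1.ge, hl_0_2]
      · linarith only [hd x1, hwp x1, hx_1_0, hnn x1 x2 hne_1_2]
      · linarith only [hd x2, hwp x2, hl_2_0, hnn x2 x1 hne_1_2.symm]
  · exfalso
    refine NT.cert4 T x0 x1 x2 x3 hne_0_1 hne_0_2 hne_0_3 hne_1_2 hne_1_3 hne_2_3 (by norm_num) 2 1 1 1 (by norm_num) (by norm_num) (by norm_num) (by norm_num) ?_ ?_ ?_ ?_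
    · linarith only [hd x0, hwp x0, hx_0_1.ge, hl_0_2, hl_0_3]
    · linarith only [hd x1, hwp x1, hl_1_0, hnn x1 x2 hne_1_2, hnn x1 x3 hne_1_3]
    · linarith only [hd x2, hwp x2, hl_2_0, hnn x2 x1 hne_1_2.symm, hnn x2 x3 hne_2_3]
    · linarith only [hd x3, hwp x3, hl_3_0, hnn x3 x1 hne_1_3.symm, hnn x3 x2 hne_2_3.symm]
  · exfalso
    refine NT.cert3 T x0 x1 x2 hne_0_1 hne_0_2 hne_1_2 (by norm_num) 2 1 1 (by norm_num) (by norm_num) (by norm_num) ?_ ?_ ?_
    · linarith only [hd x0, hwp x0, hx_0_1, hl_0_2]
    · linarith only [hd x1, hwp x1, hl_1_0, hnn x1 x2 hne_1_2]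
    · linarith only [hd x2, hwp x2, hl_2_0, hnn x2 x1 hne_1_2.symm]

end Groth.Agent.Lib.Helper39.G8
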