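import Groth.Agent.Lib.Helper39.G8.Goal

namespace Groth.Agent.Lib.Helper39.G8

open Models Groth.Agent.Lib.Helper39

theorem shape14 (T : Models.NumericalType 8) (hall : ∀ i, T.IsMinusTwo i) (x0 x1 x2 x3 x4 x5 x6 x7 : Fin 8)
    (hne_0_1 : x0 ≠ x1) (hne_0_2 : x0 ≠ x2) (hne_0_3 : x0 ≠ x3) (hne_0_4 : x0 ≠ x4)
    (hne_0_5 : x0 ≠ x5) (hne_0_6 : x0 ≠ x6) (hne_0_7 : x0 ≠ x7) (hne_1_2 : x1 ≠ x2)
    (hne_1_3 : x1 ≠ x3) (hne_1_4 : x1 ≠ x4) (hne_1_5 : x1 ≠ x5) (hne_1_6 : x1 ≠ x6)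
    (hne_1_7 : x1 ≠ x7) (hne_2_3 : x2 ≠ x3) (hne_2_4 : x2 ≠ x4) (hne_2_5 : x2 ≠ x5)
    (hne_2_6 : x2 ≠ x6) (hne_2_7 : x2 ≠ x7) (hne_3_4 : x3 ≠ x4) (hne_3_5 : x3 ≠ x5)
    (hne_3_6 : x3 ≠ x6) (hne_3_7 : x3 ≠ x7) (hne_4_5 : x4 ≠ x5) (hne_4_6 : x4 ≠ x6)
    (hne_4_7 : x4 ≠ x7) (hne_5_6 : x5 ≠ x6) (hne_5_7 : x5 ≠ x7) (hne_6_7 : x6 ≠ x7)
    (hadj_0_1 : T.a x0 x1 ≠ 0) (hadj_0_2 : T.a x0 x2 ≠ 0) (hadj_0_3 : T.a x0 x3 ≠ 0)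
    (hz_0_4 : T.a x0 x4 = 0) (hz_0_5 : T.a x0 x5 = 0) (hz_0_6 : T.a x0 x6 = 0)
    (hz_0_7 : T.a x0 x7 = 0) (hz_1_2 : T.a x1 x2 = 0) (hz_1_3 : T.a x1 x3 = 0)
    (hadj_1_4 : T.a x1 x4 ≠ 0) (hz_1_5 : T.a x1 x5 = 0) (hz_1_6 : T.a x1 x6 = 0)
    (hz_1_7 : T.a x1 x7 = 0) (hz_2_3 : T.a x2 x3 = 0) (hz_2_4 : T.a x2 x4 = 0)
    (hz_2_5 : T.a x2 x5 = 0) (hz_2_6 : T.a x2 x6 = 0) (hz_2_7 : T.a x2 x7 = 0)
    (hz_3_4 : T.a x3 x4 = 0) (hz_3_5 : T.a x3 x5 = 0) (hz_3_6 : T.a x3 x6 = 0)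
    (hz_3_7 : T.a x3 x7 = 0) (hadj_4_5 : T.a x4 x5 ≠ 0) (hz_4_6 : T.a x4 x6 = 0)
    (hz_4_7 : T.a x4 x7 = 0) (hadj_5_6 : T.a x5 x6 ≠ 0) (hadj_5_7 : T.a x5 x7 ≠ 0)
    (hz_6_7 : T.a x6 x7 = 0) :
    Goal T := by
  unfold Goal
  have hd : ∀ i, T.a i i = -2 * T.w i := fun i => (hall i).2
  have hwp := T.w_pos
  have hmp := T.m_pos
  have hsym : ∀ i j, T.a i j = T.a j i := NT.symm' T
  have hnn : ∀ i j, i ≠ j → 0 ≤ T.a i j := T.offDiag_nonneg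
  have hadj_1_0 : T.a x1 x0 ≠ 0 := by rw [hsym]; exact hadj_0_1
  have hl_0_1 := NT.lb1 T _ _ hne_0_1 hadj_0_1
  have hl_1_0 := NT.lb1 T _ _ hne_0_1.symm hadj_1_0
  have hs_0_1 : T.a x0 x1 = T.a x1 x0 := hsym _ _
  have hadj_2_0 : T.a x2 x0 ≠ 0 := by rw [hsym]; exact hadj_0_2
  have hl_0_2 := NT.lb1 T _ _ hne_0_2 hadj_0_2
  have hl_2_0 := NT.lb1 T _ _ hne_0_2.symm hadj_2_0
  have hs_0_2 : T.a x0 x2 = T.a x2 x0 := hsym _ _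
  have hadj_3_0 : T.a x3 x0 ≠ 0 := by rw [hsym]; exact hadj_0_3
  have hl_0_3 := NT.lb1 T _ _ hne_0_3 hadj_0_3
  have hl_3_0 := NT.lb1 T _ _ hne_0_3.symm hadj_3_0
  have hs_0_3 : T.a x0 x3 = T.a x3 x0 := hsym _ _
  have hz_4_0 : T.a x4 x0 = 0 := by rw [hsym]; exact hz_0_4
  have hz_5_0 : T.a x5 x0 = 0 := by rw [hsym]; exact hz_0_5
  have hz_6_0 : T.a x6 x0 = 0 := by rw [hsym]; exact hz_0_6
  have hz_7_0 : T.a x7 x0 = 0 := by rw [hsym]; exact hz_0_7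
  have hz_2_1 : T.a x2 x1 = 0 := by rw [hsym]; exact hz_1_2
  have hz_3_1 : T.a x3 x1 = 0 := by rw [hsym]; exact hz_1_3
  have hadj_4_1 : T.a x4 x1 ≠ 0 := by rw [hsym]; exact hadj_1_4
  have hl_1_4 := NT.lb1 T _ _ hne_1_4 hadj_1_4
  have hl_4_1 := NT.lb1 T _ _ hne_1_4.symm hadj_4_1
  have hs_1_4 : T.a x1 x4 = T.a x4 x1 := hsym _ _
  have hz_5_1 : T.a x5 x1 = 0 := by rw [hsym]; exact hz_1_5
  have hz_6_1 : T.a x6 x1 = 0 := by rw [hsym]; exact hz_1_6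
  have hz_7_1 : T.a x7 x1 = 0 := by rw [hsym]; exact hz_1_7
  have hz_3_2 : T.a x3 x2 = 0 := by rw [hsym]; exact hz_2_3
  have hz_4_2 : T.a x4 x2 = 0 := by rw [hsym]; exact hz_2_4
  have hz_5_2 : T.a x5 x2 = 0 := by rw [hsym]; exact hz_2_5
  have hz_6_2 : T.a x6 x2 = 0 := by rw [hsym]; exact hz_2_6
  have hz_7_2 : T.a x7 x2 = 0 := by rw [hsym]; exact hz_2_7
  have hz_4_3 : T.a x4 x3 = 0 := by rw [hsym]; exact hz_3_4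
  have hz_5_3 : T.a x5 x3 = 0 := by rw [hsym]; exact hz_3_5
  have hz_6_3 : T.a x6 x3 = 0 := by rw [hsym]; exact hz_3_6
  have hz_7_3 : T.a x7 x3 = 0 := by rw [hsym]; exact hz_3_7
  have hadj_5_4 : T.a x5 x4 ≠ 0 := by rw [hsym]; exact hadj_4_5
  have hl_4_5 := NT.lb1 T _ _ hne_4_5 hadj_4_5
  have hl_5_4 := NT.lb1 T _ _ hne_4_5.symm hadj_5_4
  have hs_4_5 : T.a x4 x5 = T.a x5 x4 := hsym _ _
  have hz_6_4 : T.a x6 x4 = 0 := by rw [hsym]; exact hz_4_6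
  have hz_7_4 : T.a x7 x4 = 0 := by rw [hsym]; exact hz_4_7
  have hadj_6_5 : T.a x6 x5 ≠ 0 := by rw [hsym]; exact hadj_5_6
  have hl_5_6 := NT.lb1 T _ _ hne_5_6 hadj_5_6
  have hl_6_5 := NT.lb1 T _ _ hne_5_6.symm hadj_6_5
  have hs_5_6 : T.a x5 x6 = T.a x6 x5 := hsym _ _
  have hadj_7_5 : T.a x7 x5 ≠ 0 := by rw [hsym]; exact hadj_5_7
  have hl_5_7 := NT.lb1 T _ _ hne_5_7 hadj_5_7
  have hl_7_5 := NT.lb1 T _ _ hne_5_7.symm hadj_7_5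
  have hs_5_7 : T.a x5 x7 = T.a x7 x5 := hsym _ _
  have hz_7_6 : T.a x7 x6 = 0 := by rw [hsym]; exact hz_6_7
  have hinj : Function.Injective ![x0, x1, x2, x3, x4, x5, x6, x7] := NT.inj8 _ _ _ _ _ _ _ _ hne_0_1 hne_0_2 hne_0_3 hne_0_4 hne_0_5 hne_0_6 hne_0_7 hne_1_2 hne_1_3 hne_1_4 hne_1_5 hne_1_6 hne_1_7 hne_2_3 hne_2_4 hne_2_5 hne_2_6 hne_2_7 hne_3_4 hne_3_5 hne_3_6 hne_3_7 hne_4_5 hne_4_6 hne_4_7 hne_5_6 hne_5_7 hne_6_7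
  have hrow_0 : T.a x0 x0 * T.m x0 + T.a x0 x1 * T.m x1 + T.a x0 x2 * T.m x2 + T.a x0 x3 * T.m x3 + T.a x0 x4 * T.m x4 + T.a x0 x5 * T.m x5 + T.a x0 x6 * T.m x6 + T.a x0 x7 * T.m x7 = 0 := by
    have h := NT.row_fun T _ hinj (0 : Fin 8)
    rw [Fin.sum_univ_eight] at h
    exact h
  have hrow_1 : T.a x1 x0 * T.m x0 + T.a x1 x1 * T.m x1 + T.a x1 x2 * T.m x2 + T.a x1 x3 * T.m x3 + T.a x1 x4 * T.m x4 + T.a x1 x5 * T.m x5 + T.a x1 x6 * T.m x6 + T.a x1 x7 * T.m x7 = 0 := by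
    have h := NT.row_fun T _ hinj (1 : Fin 8)
    rw [Fin.sum_univ_eight] at h
    exact h
  have hrow_2 : T.a x2 x0 * T.m x0 + T.a x2 x1 * T.m x1 + T.a x2 x2 * T.m x2 + T.a x2 x3 * T.m x3 + T.a x2 x4 * T.m x4 + T.a x2 x5 * T.m x5 + T.a x2 x6 * T.m x6 + T.a x2 x7 * T.m x7 = 0 := by
    have h := NT.row_fun T _ hinj (2 : Fin 8)
    rw [Fin.sum_univ_eight] at h
    exact h
  have hrow_3 : T.a x3 x0 * T.m x0 + T.a x3 x1 * T.m x1 + T.a x3 x2 * T.m x2 + T.a x3 x3 * T.m x3 + T.a x3 x4 * T.m x4 + T.a x3 x5 * T.m x5 + T.a x3 x6 * T.m x6 + T.a x3 x7 * T.m x7 = 0 := by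
    have h := NT.row_fun T _ hinj (3 : Fin 8)
    rw [Fin.sum_univ_eight] at h
    exact h
  have hrow_4 : T.a x4 x0 * T.m x0 + T.a x4 x1 * T.m x1 + T.a x4 x2 * T.m x2 + T.a x4 x3 * T.m x3 + T.a x4 x4 * T.m x4 + T.a x4 x5 * T.m x5 + T.a x4 x6 * T.m x6 + T.a x4 x7 * T.m x7 = 0 := by
    have h := NT.row_fun T _ hinj (4 : Fin 8)
    rw [Fin.sum_univ_eight] at h
    exact h
  have hrow_5 : T.a x5 x0 * T.m x0 + T.a x5 x1 * T.m x1 + T.a x5 x2 * T.m x2 + T.a x5 x3 * T.m x3 + T.a x5 x4 * T.m x4 + T.a x5 x5 * T.m x5 + T.a x5 x6 * T.m x6 + T.a x5 x7 * T.m x7 = 0 := by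
    have h := NT.row_fun T _ hinj (5 : Fin 8)
    rw [Fin.sum_univ_eight] at h
    exact h
  have hrow_6 : T.a x6 x0 * T.m x0 + T.a x6 x1 * T.m x1 + T.a x6 x2 * T.m x2 + T.a x6 x3 * T.m x3 + T.a x6 x4 * T.m x4 + T.a x6 x5 * T.m x5 + T.a x6 x6 * T.m x6 + T.a x6 x7 * T.m x7 = 0 := by
    have h := NT.row_fun T _ hinj (6 : Fin 8)
    rw [Fin.sum_univ_eight] at h
    exact h
  have hrow_7 : T.a x7 x0 * T.m x0 + T.a x7 x1 * T.m x1 + T.a x7 x2 * T.m x2 + T.a x7 x3 * T.m x3 + T.a x7 x4 * T.m x4 + T.a x7 x5 * T.m x5 + T.a x7 x6 * T.m x6 + T.a x7 x7 * T.m x7 = 0 := by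
    have h := NT.row_fun T _ hinj (7 : Fin 8)
    rw [Fin.sum_univ_eight] at h
    exact h
  obtain ⟨heq_0, heq_1, heq_2, heq_3, heq_4, heq_5, heq_6, heq_7⟩ := NT.harm8 T x0 x1 x2 x3 x4 x5 x6 x7 hne_0_1 hne_0_2 hne_0_3 hne_0_4 hne_0_5 hne_0_6 hne_0_7 hne_1_2 hne_1_3 hne_1_4 hne_1_5 hne_1_6 hne_1_7 hne_2_3 hne_2_4 hne_2_5 hne_2_6 hne_2_7 hne_3_4 hne_3_5 hne_3_6 hne_3_7 hne_4_5 hne_4_6 hne_4_7 hne_5_6 hne_5_7 hne_6_7 2 2 1 1 2 2 1 1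
    (by linarith only [hd x0, hl_0_1, hl_0_2, hl_0_3, hz_0_4, hz_0_5, hz_0_6, hz_0_7])
    (by linarith only [hd x1, hl_1_0, hz_1_2, hz_1_3, hl_1_4, hz_1_5, hz_1_6, hz_1_7])
    (by linarith only [hd x2, hl_2_0, hz_2_1, hz_2_3, hz_2_4, hz_2_5, hz_2_6, hz_2_7])
    (by linarith only [hd x3, hl_3_0, hz_3_1, hz_3_2, hz_3_4, hz_3_5, hz_3_6, hz_3_7])
    (by linarith only [hd x4, hz_4_0, hl_4_1, hz_4_2, hz_4_3, hl_4_5, hz_4_6, hz_4_7])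
    (by linarith only [hd x5, hz_5_0, hz_5_1, hz_5_2, hz_5_3, hl_5_4, hl_5_6, hl_5_7])
    (by linarith only [hd x6, hz_6_0, hz_6_1, hz_6_2, hz_6_3, hz_6_4, hl_6_5, hz_6_7])
    (by linarith only [hd x7, hz_7_0, hz_7_1, hz_7_2, hz_7_3, hz_7_4, hl_7_5, hz_7_6])
  have hx_0_1 : T.a x0 x1 = T.w x0 := by linarith only [heq_0, hwp x0, hd x0, hl_0_1, hl_0_2, hl_0_3, hz_0_4, hz_0_5, hz_0_6, hz_0_7]
  have hx_1_0 : T.a x1 x0 = T.w x1 := by linarith only [heq_1, hwp x1, hd x1, hl_1_0, hz_1_2, hz_1_3, hl_1_4, hz_1_5, hz_1_6, hz_1_7]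
  have hx_0_2 : T.a x0 x2 = T.w x0 := by linarith only [heq_0, hwp x0, hd x0, hl_0_1, hl_0_2, hl_0_3, hz_0_4, hz_0_5, hz_0_6, hz_0_7]
  have hx_2_0 : T.a x2 x0 = T.w x2 := by linarith only [heq_2, hwp x2, hd x2, hl_2_0, hz_2_1, hz_2_3, hz_2_4, hz_2_5, hz_2_6, hz_2_7]
  have hx_0_3 : T.a x0 x3 = T.w x0 := by linarith only [heq_0, hwp x0, hd x0, hl_0_1, hl_0_2, hl_0_3, hz_0_4, hz_0_5, hz_0_6, hz_0_7]
  have hx_3_0 : T.a x3 x0 = T.w x3 := by linarith only [heq_3, hwp x3, hd x3, hl_3_0, hz_3_1, hz_3_2, hz_3_4, hz_3_5, hz_3_6, hz_3_7]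
  have hx_1_4 : T.a x1 x4 = T.w x1 := by linarith only [heq_1, hwp x1, hd x1, hl_1_0, hz_1_2, hz_1_3, hl_1_4, hz_1_5, hz_1_6, hz_1_7]
  have hx_4_1 : T.a x4 x1 = T.w x4 := by linarith only [heq_4, hwp x4, hd x4, hz_4_0, hl_4_1, hz_4_2, hz_4_3, hl_4_5, hz_4_6, hz_4_7]
  have hx_4_5 : T.a x4 x5 = T.w x4 := by linarith only [heq_4, hwp x4, hd x4, hz_4_0, hl_4_1, hz_4_2, hz_4_3, hl_4_5, hz_4_6, hz_4_7]
  have hx_5_4 : T.a x5 x4 = T.w x5 := by linarith only [heq_5, hwp x5, hd x5, hz_5_0, hz_5_1, hz_5_2, hz_5_3, hl_5_4, hl_5_6, hl_5_7]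
  have hx_5_6 : T.a x5 x6 = T.w x5 := by linarith only [heq_5, hwp x5, hd x5, hz_5_0, hz_5_1, hz_5_2, hz_5_3, hl_5_4, hl_5_6, hl_5_7]
  have hx_6_5 : T.a x6 x5 = T.w x6 := by linarith only [heq_6, hwp x6, hd x6, hz_6_0, hz_6_1, hz_6_2, hz_6_3, hz_6_4, hl_6_5, hz_6_7]
  have hx_5_7 : T.a x5 x7 = T.w x5 := by linarith only [heq_5, hwp x5, hd x5, hz_5_0, hz_5_1, hz_5_2, hz_5_3, hl_5_4, hl_5_6, hl_5_7]
  have hx_7_5 : T.a x7 x5 = T.w x7 := by linarith only [heq_7, hwp x7, hd x7, hz_7_0, hz_7_1, hz_7_2, hz_7_3, hz_7_4, hl_7_5, hz_7_6]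
  have cw_2 : T.w x2 = T.w x2 := rfl
  have cw_0 : T.w x0 = T.w x2 := by linarith only [cw_2, hx_2_0, hx_0_2, hs_0_2]
  have cw_1 : T.w x1 = T.w x2 := by linarith only [cw_0, hx_0_1, hx_1_0, hs_0_1]
  have cw_3 : T.w x3 = T.w x2 := by linarith only [cw_0, hx_0_3, hx_3_0, hs_0_3]
  have cw_4 : T.w x4 = T.w x2 := by linarith only [cw_1, hx_1_4, hx_4_1, hs_1_4]
  have cw_5 : T.w x5 = T.w x2 := by linarith only [cw_4, hx_4_5, hx_5_4, hs_4_5]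
  have cw_6 : T.w x6 = T.w x2 := by linarith only [cw_5, hx_5_6, hx_6_5, hs_5_6]
  have cw_7 : T.w x7 = T.w x2 := by linarith only [cw_5, hx_5_7, hx_7_5, hs_5_7]
  have ca_0_0 : T.a x0 x0 = -2 * T.w x2 := by linarith only [hd x0, cw_0]
  have ca_0_1 : T.a x0 x1 = T.w x2 := by linarith only [hx_0_1, cw_0]
  have ca_0_2 : T.a x0 x2 = T.w x2 := by linarith only [hx_0_2, cw_0]
  have ca_0_3 : T.a x0 x3 = T.w x2 := by linarith only [hx_0_3, cw_0]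
  have ca_1_0 : T.a x1 x0 = T.w x2 := by linarith only [hx_1_0, cw_1]
  have ca_1_1 : T.a x1 x1 = -2 * T.w x2 := by linarith only [hd x1, cw_1]
  have ca_1_4 : T.a x1 x4 = T.w x2 := by linarith only [hx_1_4, cw_1]
  have ca_2_0 : T.a x2 x0 = T.w x2 := by linarith only [hx_2_0, cw_2]
  have ca_2_2 : T.a x2 x2 = -2 * T.w x2 := by linarith only [hd x2, cw_2]
  have ca_3_0 : T.a x3 x0 = T.w x2 := by linarith only [hx_3_0, cw_3]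
  have ca_3_3 : T.a x3 x3 = -2 * T.w x2 := by linarith only [hd x3, cw_3]
  have ca_4_1 : T.a x4 x1 = T.w x2 := by linarith only [hx_4_1, cw_4]
  have ca_4_4 : T.a x4 x4 = -2 * T.w x2 := by linarith only [hd x4, cw_4]
  have ca_4_5 : T.a x4 x5 = T.w x2 := by linarith only [hx_4_5, cw_4]
  have ca_5_4 : T.a x5 x4 = T.w x2 := by linarith only [hx_5_4, cw_5]
  have ca_5_5 : T.a x5 x5 = -2 * T.w x2 := by linarith only [hd x5, cw_5]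
  have ca_5_6 : T.a x5 x6 = T.w x2 := by linarith only [hx_5_6, cw_5]
  have ca_5_7 : T.a x5 x7 = T.w x2 := by linarith only [hx_5_7, cw_5]
  have ca_6_5 : T.a x6 x5 = T.w x2 := by linarith only [hx_6_5, cw_6]
  have ca_6_6 : T.a x6 x6 = -2 * T.w x2 := by linarith only [hd x6, cw_6]
  have ca_7_5 : T.a x7 x5 = T.w x2 := by linarith only [hx_7_5, cw_7]
  have ca_7_7 : T.a x7 x7 = -2 * T.w x2 := by linarith only [hd x7, cw_7]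
  have hm_0 : -2 * T.m x0 + 1 * T.m x1 + 1 * T.m x2 + 1 * T.m x3 = 0 := by
    have h := hrow_0
    rw [ca_0_0, ca_0_1, ca_0_2, ca_0_3, hz_0_4, hz_0_5, hz_0_6, hz_0_7] at h
    have h2 : T.w x2 * (-2 * T.m x0 + 1 * T.m x1 + 1 * T.m x2 + 1 * T.m x3) = 0 := by linarith only [h]
    rcases mul_eq_zero.mp h2 with h3 | h3
    · exact absurd h3 (hwp _).ne'
    · exact h3
  have hm_1 : 1 * T.m x0 + -2 * T.m x1 + 1 * T.m x4 = 0 := by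
    have h := hrow_1
    rw [ca_1_0, ca_1_1, hz_1_2, hz_1_3, ca_1_4, hz_1_5, hz_1_6, hz_1_7] at h
    have h2 : T.w x2 * (1 * T.m x0 + -2 * T.m x1 + 1 * T.m x4) = 0 := by linarith only [h]
    rcases mul_eq_zero.mp h2 with h3 | h3
    · exact absurd h3 (hwp _).ne'
    · exact h3
  have hm_2 : 1 * T.m x0 + -2 * T.m x2 = 0 := by
    have h := hrow_2
    rw [ca_2_0, hz_2_1, ca_2_2, hz_2_3, hz_2_4, hz_2_5, hz_2_6, hz_2_7] at h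
    have h2 : T.w x2 * (1 * T.m x0 + -2 * T.m x2) = 0 := by linarith only [h]
    rcases mul_eq_zero.mp h2 with h3 | h3
    · exact absurd h3 (hwp _).ne'
    · exact h3
  have hm_3 : 1 * T.m x0 + -2 * T.m x3 = 0 := by
    have h := hrow_3
    rw [ca_3_0, hz_3_1, hz_3_2, ca_3_3, hz_3_4, hz_3_5, hz_3_6, hz_3_7] at h
    have h2 : T.w x2 * (1 * T.m x0 + -2 * T.m x3) = 0 := by linarith only [h]
    rcases mul_eq_zero.mp h2 with h3 | h3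
    · exact absurd h3 (hwp _).ne'
    · exact h3
  have hm_4 : 1 * T.m x1 + -2 * T.m x4 + 1 * T.m x5 = 0 := by
    have h := hrow_4
    rw [hz_4_0, ca_4_1, hz_4_2, hz_4_3, ca_4_4, ca_4_5, hz_4_6, hz_4_7] at h
    have h2 : T.w x2 * (1 * T.m x1 + -2 * T.m x4 + 1 * T.m x5) = 0 := by linarith only [h]
    rcases mul_eq_zero.mp h2 with h3 | h3
    · exact absurd h3 (hwp _).ne'
    · exact h3
  have hm_5 : 1 * T.m x4 + -2 * T.m x5 + 1 * T.m x6 + 1 * T.m x7 = 0 := by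
    have h := hrow_5
    rw [hz_5_0, hz_5_1, hz_5_2, hz_5_3, ca_5_4, ca_5_5, ca_5_6, ca_5_7] at h
    have h2 : T.w x2 * (1 * T.m x4 + -2 * T.m x5 + 1 * T.m x6 + 1 * T.m x7) = 0 := by linarith only [h]
    rcases mul_eq_zero.mp h2 with h3 | h3
    · exact absurd h3 (hwp _).ne'
    · exact h3
  have hm_6 : 1 * T.m x5 + -2 * T.m x6 = 0 := by
    have h := hrow_6
    rw [hz_6_0, hz_6_1, hz_6_2, hz_6_3, hz_6_4, ca_6_5, ca_6_6, hz_6_7] at h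
    have h2 : T.w x2 * (1 * T.m x5 + -2 * T.m x6) = 0 := by linarith only [h]
    rcases mul_eq_zero.mp h2 with h3 | h3
    · exact absurd h3 (hwp _).ne'
    · exact h3
  have hm_7 : 1 * T.m x5 + -2 * T.m x7 = 0 := by
    have h := hrow_7
    rw [hz_7_0, hz_7_1, hz_7_2, hz_7_3, hz_7_4, ca_7_5, hz_7_6, ca_7_7] at h
    have h2 : T.w x2 * (1 * T.m x5 + -2 * T.m x7) = 0 := by linarith only [h]
    rcases mul_eq_zero.mp h2 with h3 | h3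
    · exact absurd h3 (hwp _).ne'
    · exact h3
  have cmu_0 : T.m x0 = 2 * T.m x2 := by linarith only [hm_0, hm_1, hm_2, hm_3, hm_4, hm_5, hm_6, hm_7]
  have cmu_1 : T.m x1 = 2 * T.m x2 := by linarith only [hm_0, hm_1, hm_2, hm_3, hm_4, hm_5, hm_6, hm_7]
  have cmu_2 : T.m x2 = T.m x2 := rfl
  have cmu_3 : T.m x3 = T.m x2 := by linarith only [hm_0, hm_1, hm_2, hm_3, hm_4, hm_5, hm_6, hm_7]
  have cmu_4 : T.m x4 = 2 * T.m x2 := by linarith only [hm_0, hm_1, hm_2, hm_3, hm_4, hm_5, hm_6, hm_7]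
  have cmu_5 : T.m x5 = 2 * T.m x2 := by linarith only [hm_0, hm_1, hm_2, hm_3, hm_4, hm_5, hm_6, hm_7]
  have cmu_6 : T.m x6 = T.m x2 := by linarith only [hm_0, hm_1, hm_2, hm_3, hm_4, hm_5, hm_6, hm_7]
  have cmu_7 : T.m x7 = T.m x2 := by linarith only [hm_0, hm_1, hm_2, hm_3, hm_4, hm_5, hm_6, hm_7]
  have hinjσ : Function.Injective ![x2, x3, x0, x1, x4, x5, x6, x7] := NT.inj8 _ _ _ _ _ _ _ _ hne_2_3 hne_0_2.symm hne_1_2.symm hne_2_4 hne_2_5 hne_2_6 hne_2_7 hne_0_3.symm hne_1_3.symm hne_3_4 hne_3_5 hne_3_6 hne_3_7 hne_0_1 hne_0_4 hne_0_5 hne_0_6 hne_0_7 hne_1_4 hne_1_5 hne_1_6 hne_1_7 hne_4_5 hne_4_6 hne_4_7 hne_5_6 hne_5_7 hne_6_7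
  exact ⟨Equiv.ofBijective ![x2, x3, x0, x1, x4, x5, x6, x7] ⟨hinjσ, Finite.surjective_of_injective hinjσ⟩, T.m x2, T.w x2, Or.inr (Or.inr (Or.inr (Or.inr (Or.inr (Or.inr (Or.inl ⟨cmu_2, cmu_3, cmu_0, cmu_1, cmu_4, cmu_5, cmu_6, cmu_7, cw_2, cw_3, cw_0, cw_1, cw_4, cw_5, cw_6, cw_7, ca_2_2, hz_2_3, ca_2_0, hz_2_1, hz_2_4, hz_2_5, hz_2_6, hz_2_7, ca_3_3, ca_3_0, hz_3_1, hz_3_4, hz_3_5, hz_3_6, hz_3_7, ca_0_0, ca_0_1, hz_0_4, hz_0_5, hz_0_6, hz_0_7, ca_1_1, ca_1_4, hz_1_5, hz_1_6, hz_1_7, ca_4_4, ca_4_5, hz_4_6, hz_4_7, ca_5_5, ca_5_6, ca_5_7, ca_6_6, hz_6_7, ca_7_7⟩))))))⟩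

end Groth.Agent.Lib.Helper39.G8
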